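import Mathlib.RingTheory.GradedAlgebra.Basic
import Mathlib.Algebra.MonoidAlgebra.Lift
import Mathlib.Algebra.MonoidAlgebra.Basic
import Mathlib.Algebra.DirectSum.Module

/-!
# Gradings from coactions of monoid algebras
-/

set_option autoImplicit false
universe u

noncomputable section

namespace MagnetSymLib

variable {R A : Type u} {G : Type} [CommRing R] [CommRing A] [Algebra R A] [AddCommMonoid G]

/-- A coaction of a monoid algebra. -/
structure Coact (ρ : A →ₐ[R] MonoidAlgebra A (Multiplicative G)) : Prop where
  coassoc : ∀ (a : A) (m : Multiplicative G), ρ ((ρ a).coeff m) = MonoidAlgebra.single m ((ρ a).coeff m)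
  counit : ∀ a : A, (ρ a).coeff.sum (fun _ r => r) = a

/-- The homogeneous part of a coaction. -/
def piece (ρ : A →ₐ[R] MonoidAlgebra A (Multiplicative G)) (g : G) : Submodule R A where
  carrier := {a | ρ a = MonoidAlgebra.single (Multiplicative.ofAdd g) a}
  zero_mem' := by simp
  add_mem' {a b} (ha : ρ a = _) (hb : ρ b = _) := by
    change ρ (a + b) = _
    rw [map_add, ha, hb, MonoidAlgebra.single_add]
  smul_mem' c a (ha : ρ a = _) := by
    change ρ (c • a) = _
    rw [map_smul, ha, MonoidAlgebra.smul_single]

theorem mem_piece {ρ : A →ₐ[R] MonoidAlgebra A (Multiplicative G)} {g : G} {a : A} :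
    a ∈ piece ρ g ↔ ρ a = MonoidAlgebra.single (Multiplicative.ofAdd g) a := Iff.rfl

theorem graded_monoid (ρ : A →ₐ[R] MonoidAlgebra A (Multiplicative G)) : SetLike.GradedMonoid (piece ρ) where
  one_mem := by rw [mem_piece, map_one]; rfl
  mul_mem g h a b ha hb := by
    rw [mem_piece] at *
    rw [map_mul, ha, hb, MonoidAlgebra.single_mul_single, ofAdd_add]

variable {ρ : A →ₐ[R] MonoidAlgebra A (Multiplicative G)}

theorem coeff_mem_piece (h : Coact ρ) (a : A) (m : Multiplicative G) :
    (ρ a).coeff m ∈ piece ρ (Multiplicative.toAdd m) := h.coassoc a m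

theorem Coact.isInternal (h : Coact ρ) [DecidableEq G] : DirectSum.IsInternal (piece ρ) := by
  classical
  rw [DirectSum.isInternal_submodule_iff_iSupIndep_and_iSup_eq_top]
  constructor
  · rw [iSupIndep_def]
    intro g
    rw [Submodule.disjoint_def]
    intro x hx hy
    let c : A →+ A := AddMonoidHom.mk' (fun a => (ρ a).coeff (Multiplicative.ofAdd g)) fun a b => by simp
    have h1 : c x = x := by
      change (ρ x).coeff _ = x
      rw [mem_piece.mp hx, MonoidAlgebra.coeff_single, Finsupp.single_eq_same]
    have h2 : c x = 0 := by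
      refine Submodule.iSup_induction (motive := fun z => c z = 0) _ hy (fun j z hz => ?_) (map_zero c)
        fun z w hz hw => by rw [map_add, hz, hw, add_zero]
      by_cases hj : j ≠ g
      · rw [iSup_pos hj] at hz
        change (ρ z).coeff _ = 0
        rw [mem_piece.mp hz, MonoidAlgebra.coeff_single, Finsupp.single_eq_of_ne]
        exact fun e => hj (Multiplicative.ofAdd.injective e.symm)
      · rw [iSup_neg hj] at hz
        rw [(Submodule.mem_bot R).mp hz, map_zero]
    rw [← h1, h2]
  · refine eq_top_iff.mpr fun a _ => ?_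
    rw [← h.counit a]
    exact Submodule.sum_mem _ fun m _ => Submodule.mem_iSup_of_mem _ (coeff_mem_piece h a m)

/-- The grading of a coaction. -/
@[reducible]
def Coact.gradedAlgebra (h : Coact ρ) [DecidableEq G] : GradedAlgebra (piece ρ) :=
  letI := graded_monoid ρ
  letI := h.isInternal.chooseDecomposition
  { }

theorem Coact.proj_eq (h : Coact ρ) [DecidableEq G] (g : G) (a : A) :
    letI := h.gradedAlgebra
    GradedRing.proj (piece ρ) g a = (ρ a).coeff (Multiplicative.ofAdd g) := by
  letI := h.gradedAlgebra
  change _ = (AddMonoidHom.mk' (fun x => (ρ x).coeff (Multiplicative.ofAdd g)) fun x y => by simp) a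
  refine DFunLike.congr_fun (f := GradedRing.proj (piece ρ) g) ?_ a
  ext x
  induction x using DirectSum.Decomposition.inductionOn (piece ρ) with
  | zero => simp
  | add x y hx hy => rw [map_add, map_add, hx, hy]
  | homogeneous x =>
    rename_i j
    rw [GradedRing.proj_apply]
    change _ = (ρ x.1).coeff _
    rw [mem_piece.mp x.2, MonoidAlgebra.coeff_single]
    by_cases hj : j = g
    · subst hj
      rw [DirectSum.decompose_of_mem_same _ x.2, Finsupp.single_eq_same]
    · rw [DirectSum.decompose_of_mem_ne _ x.2 hj, Finsupp.single_eq_of_ne]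
      exact fun e => hj (Multiplicative.ofAdd.injective e.symm)

end MagnetSymLib
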