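import Groth.Agent.MagnetSymLib.SymIso
import Groth.Agent.EqLiftLib.FaceFun
import Mathlib.RingTheory.FiniteType

/-!
# Removing the finiteness of the monoid of degrees
-/

set_option autoImplicit false
universe u

open DirectSum

noncomputable section

namespace MagnetSymLib

variable {B A : Type u} [CommRing B] [CommRing A] [Algebra B A] {G : Type} [AddCommGroup G] [DecidableEq G]
  (𝒜 : G → Submodule B A) [GradedAlgebra 𝒜] (ε : A →ₐ[B] B) (N : AddSubmonoid G)

theorem exists_fg_posIdeal [Algebra.FiniteType B A] :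
    ∃ N' : AddSubmonoid G, N'.FG ∧ N' ≤ N ∧ posIdeal 𝒜 ε N' = posIdeal 𝒜 ε N := by
  classical
  obtain ⟨s, hs⟩ := (inferInstance : Algebra.FiniteType B A).1
  let D : Finset G := s.biUnion fun a => (decompose 𝒜 a).support
  let D' : Finset G := D.filter fun d => d ∈ N
  let N' : AddSubmonoid G := AddSubmonoid.closure (D' : Set G)
  have hle : N' ≤ N := AddSubmonoid.closure_le.mpr fun d hd => (Finset.mem_filter.mp hd).2
  refine ⟨N', ⟨D', rfl⟩, hle, le_antisymm ?_ ?_⟩
  swap
  · exact Ideal.span_mono (Set.union_subset_union_left _ fun a ⟨m, hm, ha⟩ => ⟨m, fun h => hm (hle h), ha⟩)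
  let J := posIdeal 𝒜 ε N
  let K : Submodule B A :=
    { carrier := {a | ∀ m, m ∉ N' → projL 𝒜 m a ∈ J}
      zero_mem' := fun m _ => by rw [map_zero]; exact J.zero_mem
      add_mem' := fun {a b} ha hb m hm => by rw [map_add]; exact J.add_mem (ha m hm) (hb m hm)
      smul_mem' := fun c a ha m hm => by
        rw [map_smul, Algebra.smul_def]
        exact J.mul_mem_left _ (ha m hm) }
  have hK : ∀ a : A, a ∈ K := by
    intro a
    have ha : a ∈ Algebra.adjoin B (s : Set A) := hs ▸ Algebra.mem_top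
    induction ha using Algebra.adjoin_induction with
    | mem x hx =>
      intro m hm
      by_cases hmN : m ∈ N
      · have h0 : decompose 𝒜 x m = 0 := by
          by_contra h0
          exact hm (AddSubmonoid.subset_closure (Finset.mem_filter.mpr
            ⟨Finset.mem_biUnion.mpr ⟨x, hx, DFinsupp.mem_support_iff.mpr h0⟩, hmN⟩))
        rw [projL_apply, h0]
        exact J.zero_mem
      · exact Ideal.subset_span (Or.inl ⟨m, hmN, projL_mem 𝒜 m x⟩)
    | algebraMap r =>
      intro m hm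
      rw [projL_of_mem_ne 𝒜 (SetLike.algebraMap_mem_graded 𝒜 r) fun e : (0 : G) = m => hm (e ▸ N'.zero_mem)]
      exact J.zero_mem
    | add x y _ _ hx hy => exact K.add_mem hx hy
    | mul x y _ _ hx hy =>
      intro m hm
      rw [show x * y = (∑ i ∈ (decompose 𝒜 x).support, projL 𝒜 i x) * y by
        rw [show (∑ i ∈ (decompose 𝒜 x).support, projL 𝒜 i x) = x from sum_support_decompose 𝒜 x],
        Finset.sum_mul, map_sum]
      refine J.sum_mem fun i _ => ?_
      rw [show m = i + (m - i) by abel, projL_mul_left 𝒜 (projL_mem 𝒜 i x)]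
      by_cases hi : i ∈ N'
      · refine J.mul_mem_left _ (hy _ fun h => hm ?_)
        rw [show m = i + (m - i) by abel]
        exact N'.add_mem hi h
      · exact J.mul_mem_right _ (hx i hi)
  refine Ideal.span_le.mpr ?_
  rintro a (⟨m, hm, ha⟩ | h)
  · exact projL_of_mem 𝒜 ha ▸ hK a m hm
  · exact Ideal.subset_span (Or.inr h)

/-- The positive quotient for a pointed monoid of degrees. -/
theorem exists_symIso' [AddGroup.FG G] (hpt : ∀ m ∈ N, -m ∈ N → m = 0)
    (hε : ∀ m, m ≠ 0 → ∀ a ∈ 𝒜 m, ε a = 0) [Algebra.FormallySmooth B A] [Algebra.FiniteType B A] :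
    ∃ (P : Type u) (_ : AddCommGroup P) (_ : Module B P), Module.Finite B P ∧ Module.Projective B P ∧
      Nonempty ((A ⧸ posIdeal 𝒜 ε N) ≃ₐ[B] SymmetricAlgebra B P) := by
  obtain ⟨N', hfg, hle, heq⟩ := exists_fg_posIdeal 𝒜 ε N
  have hF : Magnet.IsFace N' ⊥ := ⟨bot_le, fun x hx y hy hxy => by
    rw [AddSubmonoid.mem_bot] at hxy ⊢
    have hx0 : x = 0 := hpt x (hle hx) (by rw [neg_eq_of_add_eq_zero_right hxy]; exact hle hy)
    exact ⟨hx0, by rwa [hx0, zero_add] at hxy⟩⟩
  obtain ⟨φ, hφ0, hφ⟩ := EqLiftLib.exists_face_fun hfg hF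
  obtain ⟨h1, h2, ⟨e⟩⟩ := exists_symIso 𝒜 ε N' hε φ fun m hm hm0 =>
    lt_of_le_of_ne (hφ0 m hm) fun h => hm0 (AddSubmonoid.mem_bot.mp ((hφ m hm).mp h.symm))
  exact ⟨PosDiff 𝒜 ε N', inferInstance, inferInstance, h1, h2,
    ⟨(Ideal.quotientEquivAlgOfEq B heq.symm).trans e⟩⟩

end MagnetSymLib
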