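import Mathlib.RingTheory.Kaehler.Basic
import Mathlib.RingTheory.Smooth.Basic
import Mathlib.Algebra.Module.Projective

/-!
# Differentials at a retraction
-/

set_option autoImplicit false
universe u

open KaehlerDifferential

noncomputable section

namespace MagnetSymLib

variable {B A : Type u} [CommRing B] [CommRing A] [Algebra B A] (ε : A →ₐ[B] B)

/-- The differentials restricted along a retraction. -/
abbrev EDiff : Type u := Ω[A⁄B] ⧸ (RingHom.ker ε • (⊤ : Submodule A Ω[A⁄B]))

/-- The differential at a retraction. -/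
def ed : A →ₗ[B] EDiff ε :=
  ((RingHom.ker ε • (⊤ : Submodule A Ω[A⁄B])).mkQ.restrictScalars B).comp (D B A).toLinearMap

theorem smul_ediff (a : A) (x : EDiff ε) : a • x = ε a • x := by
  obtain ⟨w, rfl⟩ := Submodule.mkQ_surjective _ x
  rw [← algebraMap_smul A (ε a), ← sub_eq_zero, ← sub_smul, ← map_smul, Submodule.mkQ_apply,
    Submodule.Quotient.mk_eq_zero]
  refine Submodule.smul_mem_smul ?_ Submodule.mem_top
  simp [RingHom.mem_ker]

theorem ed_mul (a b : A) : ed ε (a * b) = ε a • ed ε b + ε b • ed ε a := by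
  change Submodule.mkQ _ (D B A (a * b)) = _
  rw [Derivation.leibniz, map_add, map_smul, map_smul]
  exact congrArg₂ (· + ·) (smul_ediff ε a _) (smul_ediff ε b _)

theorem ed_algebraMap (c : B) : ed ε (algebraMap B A c) = 0 := by
  change Submodule.mkQ _ (D B A (algebraMap B A c)) = _
  rw [Derivation.map_algebraMap, map_zero]

theorem ed_surjective : Function.Surjective (ed ε) := by
  intro x
  obtain ⟨w, rfl⟩ := Submodule.mkQ_surjective _ x
  have hw : w ∈ Submodule.span A (Set.range (D B A)) := by
    rw [KaehlerDifferential.span_range_derivation]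
    exact Submodule.mem_top
  induction hw using Submodule.span_induction with
  | mem y hy => obtain ⟨a, rfl⟩ := hy; exact ⟨a, rfl⟩
  | zero => exact ⟨0, by simp⟩
  | add y z _ _ hy hz =>
    obtain ⟨a, ha⟩ := hy
    obtain ⟨b, hb⟩ := hz
    exact ⟨a + b, by rw [map_add, map_add, ha, hb]⟩
  | smul c y _ hy =>
    obtain ⟨a, ha⟩ := hy
    refine ⟨ε c • a, (map_smul (ed ε) (ε c) a).trans ?_⟩
    rw [ha, ← smul_ediff, ← map_smul]

theorem exists_ediff_lift {V : Type u} [AddCommGroup V] [Module B V] (L : A →ₗ[B] V)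
    (hL : ∀ a b, L (a * b) = ε a • L b + ε b • L a) : ∃ l : EDiff ε →ₗ[B] V, ∀ a, l (ed ε a) = L a := by
  letI : Module A V := Module.compHom V ε.toRingHom
  have hs : ∀ (a : A) (v : V), a • v = ε a • v := fun _ _ => rfl
  haveI : IsScalarTower B A V := ⟨fun c a v => by rw [hs, hs, map_smul, smul_assoc]⟩
  let Dv : Derivation B A V :=
    { L with
      map_one_eq_zero' := by
        have h := hL 1 1
        rw [one_mul, map_one ε, one_smul] at h
        exact left_eq_add.mp h
      leibniz' := fun a b => by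
        change L (a * b) = a • L b + b • L a
        rw [hs, hs, hL] }
  have hle : RingHom.ker ε • (⊤ : Submodule A Ω[A⁄B]) ≤ LinearMap.ker Dv.liftKaehlerDifferential := by
    refine Submodule.smul_le.mpr fun a ha w _ => ?_
    rw [LinearMap.mem_ker, map_smul, hs, RingHom.mem_ker.mp ha, zero_smul]
  exact ⟨((RingHom.ker ε • (⊤ : Submodule A Ω[A⁄B])).liftQ Dv.liftKaehlerDifferential hle).restrictScalars B,
    fun a => Dv.liftKaehlerDifferential_comp_D a⟩

theorem ediff_ext {V : Type u} [AddCommGroup V] [Module B V] {f g : EDiff ε →ₗ[B] V}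
    (h : ∀ a, f (ed ε a) = g (ed ε a)) : f = g :=
  LinearMap.ext fun x => by
    obtain ⟨a, rfl⟩ := ed_surjective ε x
    exact h a

theorem finite_ediff [Module.Finite A Ω[A⁄B]] : Module.Finite B (EDiff ε) := by
  obtain ⟨s, hs⟩ := (inferInstance : Module.Finite A (EDiff ε)).1
  refine ⟨⟨s, eq_top_iff.mpr fun x _ => ?_⟩⟩
  suffices h : ∀ x, x ∈ Submodule.span A (s : Set (EDiff ε)) → x ∈ Submodule.span B (s : Set (EDiff ε)) from
    h x (hs ▸ Submodule.mem_top)
  intro x hx
  induction hx using Submodule.span_induction with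
  | mem y hy => exact Submodule.subset_span hy
  | zero => exact Submodule.zero_mem _
  | add y z _ _ hy hz => exact Submodule.add_mem _ hy hz
  | smul c y _ hy => rw [smul_ediff]; exact Submodule.smul_mem _ _ hy

theorem projective_ediff [Module.Projective A Ω[A⁄B]] : Module.Projective B (EDiff ε) := by
  let N : Submodule A Ω[A⁄B] := RingHom.ker ε • ⊤
  obtain ⟨s, hs⟩ := Module.projective_def'.mp (inferInstance : Module.Projective A Ω[A⁄B])
  let E : (Ω[A⁄B] →₀ A) →ₗ[B] (Ω[A⁄B] →₀ B) := Finsupp.mapRange.linearMap ε.toLinearMap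
  let i0 : Ω[A⁄B] →ₗ[B] (Ω[A⁄B] →₀ B) := E.comp (s.restrictScalars B)
  have hN : N.restrictScalars B ≤ LinearMap.ker i0 := by
    intro x hx
    refine Submodule.smul_induction_on (Submodule.restrictScalars_mem B N x |>.mp hx)
      (fun a ha w _ => ?_) fun y z hy hz => Submodule.add_mem _ hy hz
    ext j
    simp [i0, E, map_smul, RingHom.mem_ker.mp ha]
  let i : EDiff ε →ₗ[B] (Ω[A⁄B] →₀ B) :=
    ((N.restrictScalars B).liftQ i0 hN).comp (Submodule.Quotient.restrictScalarsEquiv B N).symm.toLinearMap
  let p : (Ω[A⁄B] →₀ B) →ₗ[B] EDiff ε := Finsupp.linearCombination B fun w => N.mkQ w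
  refine Module.Projective.of_split i p (LinearMap.ext fun x => ?_)
  obtain ⟨w, rfl⟩ := N.mkQ_surjective x
  change p (Finsupp.mapRange ε (map_zero ε) (s w)) = N.mkQ w
  have h1 : ∀ f : Ω[A⁄B] →₀ A, p (Finsupp.mapRange ε (map_zero ε) f) = N.mkQ (Finsupp.linearCombination A id f) := by
    intro f
    induction f using Finsupp.induction_linear with
    | zero => simp
    | add f g hf hg => rw [Finsupp.mapRange_add (map_add ε), map_add, hf, hg, map_add, map_add]
    | single w c =>
      rw [Finsupp.mapRange_single, Finsupp.linearCombination_single, Finsupp.linearCombination_single, id_eq]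
      exact ((map_smul N.mkQ c w).trans (smul_ediff ε c _)).symm
  rw [h1]
  exact congrArg N.mkQ (LinearMap.congr_fun hs w)

end MagnetSymLib
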