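import Mathlib.RingTheory.GradedAlgebra.Homogeneous.Ideal
import Mathlib.RingTheory.Smooth.Basic

/-!
# Graded maps out of graded formally smooth algebras
-/

set_option autoImplicit false
universe u

open DirectSum

noncomputable section

namespace MagnetSymLib

variable {B A : Type u} [CommRing B] [CommRing A] [Algebra B A] {G : Type} [AddCommGroup G] [DecidableEq G]
  (𝒜 : G → Submodule B A) [GradedAlgebra 𝒜]

/-- The component of given degree. -/
def projL (m : G) : A →ₗ[B] A :=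
  (𝒜 m).subtype.comp ((DirectSum.component B G (fun i => ↥(𝒜 i)) m).comp
    (DirectSum.decomposeLinearEquiv 𝒜).toLinearMap)

theorem projL_apply (m : G) (a : A) : projL 𝒜 m a = (decompose 𝒜 a m : A) := rfl

theorem projL_mem (m : G) (a : A) : projL 𝒜 m a ∈ 𝒜 m := (decompose 𝒜 a m).2

theorem projL_of_mem {m : G} {a : A} (ha : a ∈ 𝒜 m) : projL 𝒜 m a = a :=
  decompose_of_mem_same 𝒜 ha

theorem projL_of_mem_ne {i m : G} {a : A} (ha : a ∈ 𝒜 i) (h : i ≠ m) : projL 𝒜 m a = 0 :=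
  decompose_of_mem_ne 𝒜 ha h

theorem projL_mul_left {i j : G} {a b : A} (ha : a ∈ 𝒜 i) : projL 𝒜 (i + j) (a * b) = a * projL 𝒜 j b :=
  coe_decompose_mul_add_of_left_mem 𝒜 ha

theorem eq_zero_of_projL {a : A} (h : ∀ m, projL 𝒜 m a = 0) : a = 0 := by
  refine (decompose 𝒜).injective ?_
  rw [decompose_zero]
  exact DFunLike.ext _ _ fun m => Subtype.ext ((h m).trans rfl)

theorem hom_ext_pieces {V : Type u} [AddCommGroup V] [Module B V] {f g : A →ₗ[B] V}
    (h : ∀ m, ∀ a ∈ 𝒜 m, f a = g a) : f = g := by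
  ext a
  induction a using Decomposition.inductionOn 𝒜 with
  | zero => simp
  | add x y hx hy => rw [map_add, map_add, hx, hy]
  | homogeneous x => exact h _ _ x.2

variable {V : Type u} [AddCommGroup V] [Module B V]

/-- A linear map given on each component. -/
def sumHom (f : G → A →ₗ[B] V) : A →ₗ[B] V :=
  (DirectSum.toModule B G V fun m => (f m).comp (𝒜 m).subtype).comp (decomposeLinearEquiv 𝒜).toLinearMap

theorem sumHom_of_mem (f : G → A →ₗ[B] V) {m : G} {a : A} (ha : a ∈ 𝒜 m) : sumHom 𝒜 f a = f m a := by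
  change DirectSum.toModule B G V _ (decompose 𝒜 a) = _
  rw [decompose_of_mem 𝒜 ha, ← DirectSum.lof_eq_of B, DirectSum.toModule_lof]
  rfl

/-- The Leibniz rule can be checked on components. -/
theorem leibniz_of_pieces (ε : A →ₐ[B] B) (L : A →ₗ[B] V)
    (h : ∀ i j, ∀ a ∈ 𝒜 i, ∀ b ∈ 𝒜 j, L (a * b) = ε a • L b + ε b • L a) (a b : A) :
    L (a * b) = ε a • L b + ε b • L a := by
  induction a using Decomposition.inductionOn 𝒜 with
  | zero => simp
  | add x y hx hy => rw [add_mul, map_add, hx, hy, map_add, map_add, add_smul, smul_add]; abel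
  | homogeneous x =>
    induction b using Decomposition.inductionOn 𝒜 with
    | zero => simp
    | add y z hy hz => rw [mul_add, map_add, hy, hz, map_add, map_add, add_smul, smul_add]; abel
    | homogeneous y => exact h _ _ _ x.2 _ y.2

/-- Multiplicativity can be checked on components. -/
theorem map_mul_of_pieces {Q : Type u} [CommRing Q] [Algebra B Q] (L : A →ₗ[B] Q)
    (h : ∀ i j, ∀ a ∈ 𝒜 i, ∀ b ∈ 𝒜 j, L (a * b) = L a * L b) (a b : A) : L (a * b) = L a * L b := by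
  induction a using Decomposition.inductionOn 𝒜 with
  | zero => simp
  | add x y hx hy => rw [add_mul, map_add, hx, hy, map_add, add_mul]
  | homogeneous x =>
    induction b using Decomposition.inductionOn 𝒜 with
    | zero => simp
    | add y z hy hz => rw [mul_add, map_add, hy, hz, map_add, mul_add]
    | homogeneous y => exact h _ _ _ x.2 _ y.2

variable {S : Type u} [CommRing S] [Algebra B S] (𝒮 : G → Submodule B S) [GradedAlgebra 𝒮]

/-- A map to a quotient preserving degrees. -/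
def IsGradedHom {I : Ideal S} (g : A →ₐ[B] S ⧸ I) : Prop :=
  ∀ m, ∀ a ∈ 𝒜 m, ∃ u ∈ 𝒮 m, g a = Ideal.Quotient.mk I u

theorem isHomogeneous_pow {I : Ideal S} (hI : I.IsHomogeneous 𝒮) (k : ℕ) : (I ^ k).IsHomogeneous 𝒮 := by
  induction k with
  | zero =>
    intro i x _
    simp
  | succ k ih =>
    rw [pow_succ]
    exact ih.mul hI

theorem exists_graded_lift [Algebra.FormallySmooth B A] {I : Ideal S} (hI : I.IsHomogeneous 𝒮) {k : ℕ}
    (hk : 1 ≤ k) (g : A →ₐ[B] S ⧸ I ^ k) (hg : IsGradedHom 𝒜 𝒮 g) :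
    ∃ g' : A →ₐ[B] S ⧸ I ^ (k + 1), IsGradedHom 𝒜 𝒮 g' ∧
      ∀ a, Ideal.Quotient.factorₐ B (Ideal.pow_le_pow_right (Nat.le_succ k)) (g' a) = g a := by
  let π := Ideal.Quotient.factorₐ B (Ideal.pow_le_pow_right (I := I) (Nat.le_succ k))
  have hπs : Function.Surjective π := fun x => by
    obtain ⟨s, rfl⟩ := Ideal.Quotient.mk_surjective x
    exact ⟨Ideal.Quotient.mk _ s, rfl⟩
  have hπn : IsNilpotent (RingHom.ker (π : S ⧸ I ^ (k + 1) →+* S ⧸ I ^ k)) := by
    have hker : RingHom.ker (π : S ⧸ I ^ (k + 1) →+* S ⧸ I ^ k) ≤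
        (I ^ k).map (Ideal.Quotient.mk (I ^ (k + 1))) := fun x hx => by
      obtain ⟨s, rfl⟩ := Ideal.Quotient.mk_surjective x
      exact Ideal.mem_map_of_mem _ (Ideal.Quotient.eq_zero_iff_mem.mp hx)
    refine ⟨2, le_bot_iff.mp ?_⟩
    refine (Ideal.pow_right_mono hker 2).trans ?_
    rw [← Ideal.map_pow, ← pow_mul]
    refine le_of_le_of_eq (Ideal.map_mono (Ideal.pow_le_pow_right (show k + 1 ≤ k * 2 by omega))) ?_
    exact Ideal.map_quotient_self _
  let h := Algebra.FormallySmooth.liftOfSurjective g π hπs hπn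
  have hh : ∀ a, π (h a) = g a := Algebra.FormallySmooth.liftOfSurjective_apply g π hπs hπn
  have hwd : ∀ (m : G) (s t : S), Ideal.Quotient.mk (I ^ (k + 1)) s = Ideal.Quotient.mk (I ^ (k + 1)) t →
      Ideal.Quotient.mk (I ^ (k + 1)) (projL 𝒮 m s) = Ideal.Quotient.mk (I ^ (k + 1)) (projL 𝒮 m t) := by
    intro m s t e
    rw [Ideal.Quotient.eq, ← map_sub]
    exact isHomogeneous_pow 𝒮 hI (k + 1) m (Ideal.Quotient.eq.mp e)
  choose rep hrep using Ideal.Quotient.mk_surjective (I := I ^ (k + 1))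
  let f : G → A →ₗ[B] S ⧸ I ^ (k + 1) := fun m =>
    { toFun := fun a => Ideal.Quotient.mk _ (projL 𝒮 m (rep (h a)))
      map_add' := fun a b => by
        rw [← map_add, ← map_add]
        exact hwd m _ _ (by rw [hrep, map_add, map_add, hrep, hrep])
      map_smul' := fun c a => by
        have e := hwd m (rep (h (c • a))) (c • rep (h a)) (by
          rw [hrep, map_smul]
          change _ = (Ideal.Quotient.mkₐ B _) (c • rep (h a))
          rw [map_smul]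
          exact congrArg (c • ·) (hrep (h a)).symm)
        refine e.trans ?_
        rw [map_smul (projL 𝒮 m)]
        exact map_smul (Ideal.Quotient.mkₐ B _) c _ }
  let L := sumHom 𝒜 f
  have hL : ∀ m, ∀ a ∈ 𝒜 m, ∀ s, Ideal.Quotient.mk _ s = h a →
      L a = Ideal.Quotient.mk _ (projL 𝒮 m s) := fun m a ha s hs => by
    rw [sumHom_of_mem 𝒜 f ha]
    exact hwd m _ _ ((hrep _).trans hs.symm)
  have hsplit : ∀ m, ∀ a ∈ 𝒜 m, ∃ u ∈ 𝒮 m, ∃ x ∈ I ^ k, Ideal.Quotient.mk _ (u + x) = h a ∧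
      L a = Ideal.Quotient.mk _ (u + projL 𝒮 m x) := by
    intro m a ha
    obtain ⟨u, hu, hua⟩ := hg m a ha
    obtain ⟨s, hs⟩ := Ideal.Quotient.mk_surjective (I := I ^ (k + 1)) (h a)
    refine ⟨u, hu, s - u, ?_, by rw [add_sub_cancel, hs], ?_⟩
    · rw [← Ideal.Quotient.eq, ← hua, ← hh a, ← hs]
      rfl
    · rw [hL m a ha s hs, map_sub (projL 𝒮 m), projL_of_mem 𝒮 hu, add_sub_cancel]
  have hone : L 1 = 1 := by
    rw [hL 0 1 SetLike.GradedOne.one_mem 1 (by rw [map_one, map_one]), projL_of_mem 𝒮 SetLike.GradedOne.one_mem,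
      map_one]
  have hmul : ∀ a b, L (a * b) = L a * L b := by
    refine map_mul_of_pieces 𝒜 L fun i j a ha b hb => ?_
    obtain ⟨u, hu, x, hx, hua, hLa⟩ := hsplit i a ha
    obtain ⟨v, hv, y, hy, hvb, hLb⟩ := hsplit j b hb
    have hsq : ∀ p q : S, p ∈ I ^ k → q ∈ I ^ k → p * q ∈ I ^ (k + 1) := fun p q hp hq =>
      Ideal.pow_le_pow_right (show k + 1 ≤ k + k by omega) (pow_add I k k ▸ Ideal.mul_mem_mul hp hq)
    rw [hL (i + j) (a * b) (SetLike.GradedMul.mul_mem ha hb) ((u + x) * (v + y))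
      (by rw [map_mul, hua, hvb, map_mul]), hLa, hLb, ← map_mul, Ideal.Quotient.eq]
    have e1 : projL 𝒮 (i + j) ((u + x) * (v + y)) =
        u * v + u * projL 𝒮 j y + v * projL 𝒮 i x + projL 𝒮 (i + j) (x * y) := by
      rw [show (u + x) * (v + y) = u * v + u * y + v * x + x * y by ring, map_add, map_add, map_add,
        projL_mul_left 𝒮 hu, projL_mul_left 𝒮 hu, projL_of_mem 𝒮 hv,
        show projL 𝒮 (i + j) (v * x) = v * projL 𝒮 i x by rw [add_comm i j]; exact projL_mul_left 𝒮 hv]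
    rw [e1, show u * v + u * projL 𝒮 j y + v * projL 𝒮 i x + projL 𝒮 (i + j) (x * y) -
      (u + projL 𝒮 i x) * (v + projL 𝒮 j y) = projL 𝒮 (i + j) (x * y) - projL 𝒮 i x * projL 𝒮 j y by ring]
    exact (I ^ (k + 1)).sub_mem (isHomogeneous_pow 𝒮 hI (k + 1) _ (hsq x y hx hy))
      (hsq _ _ (isHomogeneous_pow 𝒮 hI k _ hx) (isHomogeneous_pow 𝒮 hI k _ hy))
  refine ⟨AlgHom.ofLinearMap L hone hmul, fun m a ha => ?_, fun a => ?_⟩
  · obtain ⟨u, hu, x, hx, -, hLa⟩ := hsplit m a ha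
    exact ⟨u + projL 𝒮 m x, (𝒮 m).add_mem hu (projL_mem 𝒮 m x), hLa⟩
  · refine DFunLike.congr_fun (hom_ext_pieces 𝒜 (f := π.toLinearMap.comp L) (g := g.toLinearMap)
      fun m b hb => ?_) a
    obtain ⟨u, hu, x, hx, hux, hLb⟩ := hsplit m b hb
    change π (L b) = g b
    rw [hLb, ← hh b, ← hux]
    refine Ideal.Quotient.eq.mpr ?_
    rw [add_sub_add_left_eq_sub]
    exact (I ^ k).sub_mem (isHomogeneous_pow 𝒮 hI k _ hx) hx

/-- A graded map modulo the square of a separated homogeneous ideal lifts. -/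
theorem exists_graded_hom [Algebra.FormallySmooth B A] {I : Ideal S} (hI : I.IsHomogeneous 𝒮)
    (hsep : ∀ m, ∃ K : ℕ, ∀ x ∈ 𝒮 m, x ∈ I ^ K → x = 0) (g₂ : A →ₐ[B] S ⧸ I ^ 2)
    (hg : IsGradedHom 𝒜 𝒮 g₂) :
    ∃ F : A →ₐ[B] S, (∀ m, ∀ a ∈ 𝒜 m, F a ∈ 𝒮 m) ∧ ∀ a, Ideal.Quotient.mk (I ^ 2) (F a) = g₂ a := by
  have step : ∀ (k : ℕ) (g : {g : A →ₐ[B] S ⧸ I ^ (k + 2) // IsGradedHom 𝒜 𝒮 g}),
      ∃ g' : {g : A →ₐ[B] S ⧸ I ^ (k + 1 + 2) // IsGradedHom 𝒜 𝒮 g},
        ∀ a, Ideal.Quotient.factorₐ B (Ideal.pow_le_pow_right (Nat.le_succ (k + 2))) (g'.1 a) = g.1 a :=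
    fun k g => by
      obtain ⟨g', h1, h2⟩ := exists_graded_lift 𝒜 𝒮 hI (show 1 ≤ k + 2 by omega) g.1 g.2
      exact ⟨⟨g', h1⟩, h2⟩
  choose nxt hnxt using step
  let tw : ∀ k : ℕ, {g : A →ₐ[B] S ⧸ I ^ (k + 2) // IsGradedHom 𝒜 𝒮 g} := fun k =>
    Nat.rec (motive := fun k => {g : A →ₐ[B] S ⧸ I ^ (k + 2) // IsGradedHom 𝒜 𝒮 g}) ⟨g₂, hg⟩
      (fun k g => nxt k g) k
  have hcompat : ∀ k l, ∀ (hkl : k ≤ l) a s, (tw l).1 a = Ideal.Quotient.mk _ s →
      (tw k).1 a = Ideal.Quotient.mk _ s := by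
    intro k l hkl
    induction l, hkl using Nat.le_induction with
    | base => exact fun a s hs => hs
    | succ l _ ih =>
      intro a s hs
      refine ih a s ?_
      rw [← hnxt l (tw l) a]
      change Ideal.Quotient.factorₐ B _ ((tw (l + 1)).1 a) = _
      rw [hs]
      rfl
  have hex : ∀ m, ∀ a ∈ 𝒜 m, ∃ u ∈ 𝒮 m, ∀ k, (tw k).1 a = Ideal.Quotient.mk _ u := by
    intro m a ha
    obtain ⟨K, hK⟩ := hsep m
    obtain ⟨u, hu, hua⟩ := (tw K).2 m a ha
    refine ⟨u, hu, fun k => ?_⟩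
    obtain ⟨v, hv, hva⟩ := (tw (max k K)).2 m a ha
    have h1 := hcompat K (max k K) (le_max_right _ _) a v hva
    rw [hua, Ideal.Quotient.eq] at h1
    have huv : u = v := sub_eq_zero.mp (hK _ ((𝒮 m).sub_mem hu hv)
      (Ideal.pow_le_pow_right (Nat.le_add_right K 2) h1))
    exact huv ▸ hcompat k (max k K) (le_max_left _ _) a v hva
  choose uf hum huk using hex
  have huniq : ∀ m (a : A) (ha : a ∈ 𝒜 m) (w : S), w ∈ 𝒮 m →
      (∀ k, (tw k).1 a = Ideal.Quotient.mk _ w) → uf m a ha = w := by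
    intro m a ha w hw hk
    obtain ⟨K, hK⟩ := hsep m
    exact sub_eq_zero.mp (hK _ ((𝒮 m).sub_mem (hum m a ha) hw)
      (Ideal.pow_le_pow_right (Nat.le_add_right K 2) (Ideal.Quotient.eq.mp ((huk m a ha K).symm.trans (hk K)))))
  let f : G → A →ₗ[B] S := fun m =>
    { toFun := fun a => uf m (projL 𝒜 m a) (projL_mem 𝒜 m a)
      map_add' := fun a b => huniq _ _ _ _ ((𝒮 m).add_mem (hum ..) (hum ..)) fun k => by
        rw [map_add, map_add, map_add, huk, huk]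
      map_smul' := fun c a => huniq _ _ _ _ ((𝒮 m).smul_mem _ (hum ..)) fun k => by
        rw [map_smul, map_smul, huk m (projL 𝒜 m a) (projL_mem 𝒜 m a) k]
        exact (map_smul (Ideal.Quotient.mkₐ B _) c _).symm }
  let L := sumHom 𝒜 f
  have hL : ∀ m, ∀ a ∈ 𝒜 m, L a ∈ 𝒮 m ∧ ∀ k, (tw k).1 a = Ideal.Quotient.mk _ (L a) := fun m a ha => by
    rw [sumHom_of_mem 𝒜 f ha]
    refine ⟨hum _ _ _, fun k => ?_⟩
    conv_lhs => rw [← projL_of_mem 𝒜 ha]
    exact huk _ _ _ k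
  have hsep' : ∀ m, ∀ x ∈ 𝒮 m, (∀ k, x ∈ I ^ (k + 2)) → x = 0 := fun m x hx hk => by
    obtain ⟨K, hK⟩ := hsep m
    exact hK x hx (Ideal.pow_le_pow_right (Nat.le_add_right K 2) (hk K))
  have hone : L 1 = 1 := by
    obtain ⟨h1, h2⟩ := hL 0 1 SetLike.GradedOne.one_mem
    refine sub_eq_zero.mp (hsep' 0 _ ((𝒮 0).sub_mem h1 SetLike.GradedOne.one_mem) fun k => ?_)
    rw [← Ideal.Quotient.eq, ← h2 k, map_one, map_one]
  have hmul : ∀ a b, L (a * b) = L a * L b := by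
    refine map_mul_of_pieces 𝒜 L fun i j a ha b hb => ?_
    obtain ⟨a1, a2⟩ := hL i a ha
    obtain ⟨b1, b2⟩ := hL j b hb
    obtain ⟨c1, c2⟩ := hL (i + j) (a * b) (SetLike.GradedMul.mul_mem ha hb)
    refine sub_eq_zero.mp (hsep' _ _ ((𝒮 _).sub_mem c1 (SetLike.GradedMul.mul_mem a1 b1)) fun k => ?_)
    rw [← Ideal.Quotient.eq, ← c2 k, map_mul, map_mul, a2 k, b2 k]
  refine ⟨AlgHom.ofLinearMap L hone hmul, fun m a ha => (hL m a ha).1, fun a => ?_⟩
  exact DFunLike.congr_fun (hom_ext_pieces 𝒜 (f := (Ideal.Quotient.mkₐ B (I ^ 2)).toLinearMap.comp L)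
    (g := g₂.toLinearMap) fun m b hb => ((hL m b hb).2 0).symm) a

end MagnetSymLib
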