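import Groth.Agent.MagnetSymLib.Grading
import Groth.Agent.MagnetSymLib.EpsDiff
import Groth.Agent.MagnetSymLib.GradedLift
import Mathlib.LinearAlgebra.SymmetricAlgebra.Basic

/-!
# Smooth graded algebras with a retraction in degree zero: the positive quotient is symmetric
-/

set_option autoImplicit false
universe u

open DirectSum

noncomputable section

namespace MagnetSymLib

variable {B A : Type u} [CommRing B] [CommRing A] [Algebra B A] {G : Type} [AddCommGroup G]
  (𝒜 : G → Submodule B A) (ε : A →ₐ[B] B) (N : AddSubmonoid G)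

/-- The ideal cutting out the attractor over the retraction. -/
def posIdeal : Ideal A :=
  Ideal.span ({a | ∃ m, m ∉ N ∧ a ∈ 𝒜 m} ∪ {a | a ∈ 𝒜 0 ∧ ε a = 0})

variable [DecidableEq G] [GradedAlgebra 𝒜]

/-- Degrees kept. -/
def posPart : A →ₗ[B] A :=
  open scoped Classical in sumHom 𝒜 fun m => if _ : m ∈ N ∧ m ≠ 0 then LinearMap.id else 0

open scoped Classical in
theorem posPart_of_mem {m : G} {a : A} (ha : a ∈ 𝒜 m) :
    posPart 𝒜 N a = if m ∈ N ∧ m ≠ 0 then a else 0 := by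
  rw [posPart, sumHom_of_mem 𝒜 _ ha]
  split_ifs <;> rfl

theorem posPart_idem (a : A) : posPart 𝒜 N (posPart 𝒜 N a) = posPart 𝒜 N a := by
  classical
  refine DFunLike.congr_fun (hom_ext_pieces 𝒜 (f := (posPart 𝒜 N).comp (posPart 𝒜 N)) (g := posPart 𝒜 N)
    fun m b hb => ?_) a
  rw [LinearMap.comp_apply, posPart_of_mem 𝒜 N hb]
  split_ifs with h
  · rw [posPart_of_mem 𝒜 N hb, if_pos h]
  · rw [map_zero]

/-- The differential of the kept part. -/
def posD : A →ₗ[B] EDiff ε := (ed ε).comp (posPart 𝒜 N)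

theorem posD_posPart (a : A) : posD 𝒜 ε N (posPart 𝒜 N a) = posD 𝒜 ε N a :=
  congrArg (ed ε) (posPart_idem 𝒜 N a)

variable (hε : ∀ m, m ≠ 0 → ∀ a ∈ 𝒜 m, ε a = 0)

theorem posPart_of_mem_zero {a : A} (ha : a ∈ 𝒜 0) : posPart 𝒜 N a = 0 := by
  classical
  rw [posPart_of_mem 𝒜 N ha, if_neg fun h => h.2 rfl]

include hε in
theorem eps_posPart (a : A) : ε (posPart 𝒜 N a) = 0 := by
  classical
  refine DFunLike.congr_fun (hom_ext_pieces 𝒜 (f := ε.toLinearMap.comp (posPart 𝒜 N)) (g := 0)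
    fun m b hb => ?_) a
  rw [LinearMap.comp_apply, posPart_of_mem 𝒜 N hb]
  split_ifs with h
  · exact hε m h.2 b hb
  · exact map_zero _

include hε in
/-- Scalars move only in degree zero. -/
theorem eps_smul_congr {V : Type u} [AddCommGroup V] [Module B V] {i : G} {a : A} (ha : a ∈ 𝒜 i)
    {u v : V} (h : i = 0 → u = v) : ε a • u = ε a • v := by
  by_cases hi : i = 0
  · rw [h hi]
  · rw [hε i hi a ha, zero_smul, zero_smul]

include hε in
theorem posD_mul (a b : A) : posD 𝒜 ε N (a * b) = ε a • posD 𝒜 ε N b + ε b • posD 𝒜 ε N a := by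
  classical
  refine leibniz_of_pieces 𝒜 ε _ (fun i j a ha b hb => ?_) a b
  simp only [posD, LinearMap.comp_apply]
  rw [posPart_of_mem 𝒜 N (SetLike.GradedMul.mul_mem ha hb), posPart_of_mem 𝒜 N hb, posPart_of_mem 𝒜 N ha]
  have h1 : ε a • ed ε (if j ∈ N ∧ j ≠ 0 then b else 0) = ε a • ed ε (if i + j ∈ N ∧ i + j ≠ 0 then b else 0) :=
    eps_smul_congr 𝒜 ε hε ha fun hi => by simp [hi]
  have h2 : ε b • ed ε (if i ∈ N ∧ i ≠ 0 then a else 0) = ε b • ed ε (if i + j ∈ N ∧ i + j ≠ 0 then a else 0) :=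
    eps_smul_congr 𝒜 ε hε hb fun hj => by simp [hj]
  rw [h1, h2]
  split_ifs with h
  · exact ed_mul ε a b
  · simp

/-- The positive differentials. -/
abbrev PosDiff : Submodule B (EDiff ε) := LinearMap.range (posD 𝒜 ε N)

include hε in
theorem exists_posProj : ∃ π : EDiff ε →ₗ[B] PosDiff 𝒜 ε N,
    (∀ a, (π (ed ε a) : EDiff ε) = posD 𝒜 ε N a) ∧ ∀ p : PosDiff 𝒜 ε N, π p.1 = p := by
  obtain ⟨l, hl⟩ := exists_ediff_lift ε (posD 𝒜 ε N) (posD_mul 𝒜 ε N hε)
  have hmem : ∀ x, l x ∈ PosDiff 𝒜 ε N := fun x => by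
    obtain ⟨a, rfl⟩ := ed_surjective ε x
    exact ⟨a, (hl a).symm⟩
  refine ⟨l.codRestrict _ hmem, fun a => hl a, ?_⟩
  rintro ⟨_, a, rfl⟩
  exact Subtype.ext ((hl _).trans (posD_posPart 𝒜 ε N a))

include hε in
theorem projective_posDiff [Algebra.FormallySmooth B A] : Module.Projective B (PosDiff 𝒜 ε N) := by
  obtain ⟨π, -, hπ⟩ := exists_posProj 𝒜 ε N hε
  haveI : Module.Projective A (Ω[A⁄B]) := Algebra.FormallySmooth.projective_kaehlerDifferential
  haveI := projective_ediff ε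
  exact Module.Projective.of_split (PosDiff 𝒜 ε N).subtype π (LinearMap.ext hπ)

include hε in
theorem finite_posDiff [Module.Finite A (Ω[A⁄B])] : Module.Finite B (PosDiff 𝒜 ε N) := by
  obtain ⟨π, -, hπ⟩ := exists_posProj 𝒜 ε N hε
  haveI := finite_ediff ε
  exact Module.Finite.of_surjective π fun p => ⟨p.1, hπ p⟩

/-- The target. -/
abbrev PosSym : Type u := SymmetricAlgebra B (PosDiff 𝒜 ε N)

/-- The generator attached to a function. -/
def posGen : A →ₗ[B] PosSym 𝒜 ε N :=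
  (SymmetricAlgebra.ι B (PosDiff 𝒜 ε N)).comp (posD 𝒜 ε N).rangeRestrict

theorem posGen_eq (a : A) : posGen 𝒜 ε N a = SymmetricAlgebra.ι B _ ⟨posD 𝒜 ε N a, a, rfl⟩ := rfl

theorem posGen_posPart (a : A) : posGen 𝒜 ε N (posPart 𝒜 N a) = posGen 𝒜 ε N a :=
  congrArg (SymmetricAlgebra.ι B _) (Subtype.ext (posD_posPart 𝒜 ε N a))

include hε in
theorem posGen_mul (a b : A) :
    posGen 𝒜 ε N (a * b) = ε a • posGen 𝒜 ε N b + ε b • posGen 𝒜 ε N a := by
  simp only [posGen_eq, ← map_smul, ← map_add]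
  exact congrArg _ (Subtype.ext (posD_mul 𝒜 ε N hε a b))

theorem posGen_eq_zero {m : G} {a : A} (ha : a ∈ 𝒜 m) (h : ¬(m ∈ N ∧ m ≠ 0)) :
    posGen 𝒜 ε N a = 0 := by
  classical
  rw [← posGen_posPart, posPart_of_mem 𝒜 N ha, if_neg h, map_zero]

include hε in
theorem exists_symCoaction : ∃ ρ : PosSym 𝒜 ε N →ₐ[B] MonoidAlgebra (PosSym 𝒜 ε N) (Multiplicative G),
    Coact ρ ∧ ∀ m, ∀ a ∈ 𝒜 m, posGen 𝒜 ε N a ∈ piece ρ m := by
  classical
  let SigL : A →ₗ[B] MonoidAlgebra (PosSym 𝒜 ε N) (Multiplicative G) :=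
    sumHom 𝒜 fun m =>
      { toFun := fun a => MonoidAlgebra.single (Multiplicative.ofAdd m) (posGen 𝒜 ε N a)
        map_add' := fun a b => by rw [map_add, MonoidAlgebra.single_add]
        map_smul' := fun c a => by rw [map_smul, RingHom.id_apply, MonoidAlgebra.smul_single] }
  have hSigL : ∀ m, ∀ a ∈ 𝒜 m, SigL a = MonoidAlgebra.single (Multiplicative.ofAdd m) (posGen 𝒜 ε N a) :=
    fun m a ha => sumHom_of_mem 𝒜 _ ha
  obtain ⟨l, hl⟩ := exists_ediff_lift ε SigL (leibniz_of_pieces 𝒜 ε _ fun i j a ha b hb => by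
    rw [hSigL _ _ (SetLike.GradedMul.mul_mem ha hb), posGen_mul 𝒜 ε N hε, MonoidAlgebra.single_add,
      ← MonoidAlgebra.smul_single, ← MonoidAlgebra.smul_single, hSigL i a ha, hSigL j b hb]
    exact congrArg₂ (· + ·) (eps_smul_congr 𝒜 ε hε ha fun hi => by rw [hi, zero_add])
      (eps_smul_congr 𝒜 ε hε hb fun hj => by rw [hj, add_zero]))
  let ρ := SymmetricAlgebra.lift (l.comp (PosDiff 𝒜 ε N).subtype)
  have hgen : ∀ m, ∀ a ∈ 𝒜 m, posGen 𝒜 ε N a ∈ piece ρ m := by
    intro m a ha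
    rw [mem_piece]
    change ρ (SymmetricAlgebra.ι B _ ⟨posD 𝒜 ε N a, a, rfl⟩) = _
    rw [show ρ (SymmetricAlgebra.ι B _ ⟨posD 𝒜 ε N a, a, rfl⟩) = l (posD 𝒜 ε N a) from
      SymmetricAlgebra.lift_ι_apply _ _]
    by_cases h : m ∈ N ∧ m ≠ 0
    · change l (ed ε (posPart 𝒜 N a)) = _
      rw [hl, posPart_of_mem 𝒜 N ha, if_pos h, hSigL m a ha]
    · rw [posGen_eq_zero 𝒜 ε N ha h, MonoidAlgebra.single_zero]
      change l (ed ε (posPart 𝒜 N a)) = 0
      rw [posPart_of_mem 𝒜 N ha, if_neg h, map_zero, map_zero]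
  have htop : ∀ x : PosSym 𝒜 ε N, x ∈ ⨆ g, piece ρ g := by
    intro x
    induction x using SymmetricAlgebra.induction with
    | algebraMap r =>
      refine Submodule.mem_iSup_of_mem (0 : G) ?_
      rw [mem_piece, AlgHom.commutes]
      rfl
    | ι p =>
      obtain ⟨_, a, rfl⟩ := p
      change posGen 𝒜 ε N a ∈ _
      induction a using Decomposition.inductionOn 𝒜 with
      | zero => simp
      | add x y hx hy => rw [map_add]; exact Submodule.add_mem _ hx hy
      | homogeneous x => exact Submodule.mem_iSup_of_mem _ (hgen _ _ x.2)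
    | mul x y hx hy =>
      letI := graded_monoid ρ
      refine Submodule.iSup_induction (motive := fun z => z * y ∈ ⨆ g, piece ρ g) _ hx (fun i z hz => ?_)
        (by simp) fun z w hz hw => by rw [add_mul]; exact Submodule.add_mem _ hz hw
      refine Submodule.iSup_induction (motive := fun w => z * w ∈ ⨆ g, piece ρ g) _ hy
        (fun j w hw => Submodule.mem_iSup_of_mem (i + j) (SetLike.GradedMul.mul_mem hz hw))
        (by simp) fun v w hv hw => by rw [mul_add]; exact Submodule.add_mem _ hv hw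
    | add x y hx hy => exact Submodule.add_mem _ hx hy
  refine ⟨ρ, ⟨fun x m => ?_, fun x => ?_⟩, hgen⟩
  · refine Submodule.iSup_induction (motive := fun z => ρ ((ρ z).coeff m) = MonoidAlgebra.single m ((ρ z).coeff m))
      _ (htop x) (fun i z hz => ?_) (by simp) fun z w hz hw => by
        rw [map_add, MonoidAlgebra.coeff_add, Finsupp.add_apply, map_add, hz, hw, MonoidAlgebra.single_add]
    rw [mem_piece] at hz
    rw [hz, MonoidAlgebra.coeff_single]
    by_cases hi : Multiplicative.ofAdd i = m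
    · subst hi
      rw [Finsupp.single_eq_same, hz]
    · rw [Finsupp.single_eq_of_ne (Ne.symm hi), map_zero, MonoidAlgebra.single_zero]
  · refine Submodule.iSup_induction (motive := fun z => (ρ z).coeff.sum (fun _ r => r) = z)
      _ (htop x) (fun i z hz => ?_) (by simp) fun z w hz hw => by
        rw [map_add, MonoidAlgebra.coeff_add, Finsupp.sum_add_index' (fun _ => rfl) (fun _ _ _ => rfl), hz, hw]
    rw [mem_piece.mp hz, MonoidAlgebra.coeff_single, Finsupp.sum_single_index rfl]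

variable (φ : G →+ ℤ) (hφ : ∀ m ∈ N, m ≠ 0 → 0 < φ m)

include hε hφ in
/-- The positive quotient is a symmetric algebra. -/
theorem exists_symIso [Algebra.FormallySmooth B A] [Module.Finite A (Ω[A⁄B])] :
    Module.Finite B (PosDiff 𝒜 ε N) ∧ Module.Projective B (PosDiff 𝒜 ε N) ∧
      Nonempty ((A ⧸ posIdeal 𝒜 ε N) ≃ₐ[B] PosSym 𝒜 ε N) := by
  classical
  refine ⟨finite_posDiff 𝒜 ε N hε, projective_posDiff 𝒜 ε N hε, ?_⟩
  haveI := projective_posDiff 𝒜 ε N hε
  obtain ⟨ρ, hρ, hgen⟩ := exists_symCoaction 𝒜 ε N hε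
  letI := hρ.gradedAlgebra
  let 𝒮 := piece ρ
  let Sy := PosSym 𝒜 ε N
  -- degrees
  let T : ℤ → Submodule B Sy := fun k => ⨆ m, ⨆ _ : m ∈ N ∧ k ≤ φ m, 𝒮 m
  have hT0 : ∀ m ∈ N, 0 ≤ φ m := fun m hm => by
    by_cases h : m = 0
    · rw [h, map_zero]
    · exact (hφ m hm h).le
  have hTmul : ∀ k l, ∀ x ∈ T k, ∀ y ∈ T l, x * y ∈ T (k + l) := by
    intro k l x hx y hy
    refine Submodule.iSup_induction (motive := fun z => z * y ∈ T (k + l)) _ hx (fun i z hz => ?_)
      (by simp) fun z w hz hw => by rw [add_mul]; exact Submodule.add_mem _ hz hw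
    by_cases hi : i ∈ N ∧ k ≤ φ i
    · rw [iSup_pos hi] at hz
      refine Submodule.iSup_induction (motive := fun w => z * w ∈ T (k + l)) _ hy (fun j w hw => ?_)
        (by simp) fun v w hv hw => by rw [mul_add]; exact Submodule.add_mem _ hv hw
      by_cases hj : j ∈ N ∧ l ≤ φ j
      · rw [iSup_pos hj] at hw
        refine Submodule.mem_iSup_of_mem (i + j) (Submodule.mem_iSup_of_mem
          ⟨N.add_mem hi.1 hj.1, by rw [map_add]; exact add_le_add hi.2 hj.2⟩ ?_)
        exact SetLike.GradedMul.mul_mem hz hw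
      · rw [iSup_neg hj] at hw
        rw [(Submodule.mem_bot B).mp hw, mul_zero]
        exact Submodule.zero_mem _
    · rw [iSup_neg hi] at hz
      rw [(Submodule.mem_bot B).mp hz, zero_mul]
      exact Submodule.zero_mem _
  have hgenT : ∀ a, posGen 𝒜 ε N a ∈ T 1 := by
    intro a
    induction a using Decomposition.inductionOn 𝒜 with
    | zero => simp
    | add x y hx hy => rw [map_add]; exact Submodule.add_mem _ hx hy
    | homogeneous x =>
      rename_i m
      by_cases h : m ∈ N ∧ m ≠ 0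
      · exact Submodule.mem_iSup_of_mem m (Submodule.mem_iSup_of_mem ⟨h.1, hφ m h.1 h.2⟩ (hgen _ _ x.2))
      · rw [posGen_eq_zero 𝒜 ε N x.2 h]
        exact Submodule.zero_mem _
  have hone : ∀ r : B, algebraMap B Sy r ∈ 𝒮 0 := fun r => by
    rw [mem_piece, AlgHom.commutes]
    rfl
  have hT01 : ∀ x ∈ T 1, x ∈ T 0 := fun x hx =>
    (iSup_mono fun m => iSup_mono' fun h => ⟨⟨h.1, le_trans zero_le_one h.2⟩, le_rfl⟩ : T 1 ≤ T 0) hx
  have hTall : ∀ x : Sy, x ∈ T 0 := by
    intro x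
    induction x using SymmetricAlgebra.induction with
    | algebraMap r =>
      exact Submodule.mem_iSup_of_mem (0 : G)
        (Submodule.mem_iSup_of_mem ⟨N.zero_mem, (map_zero φ).ge⟩ (hone r))
    | ι p => obtain ⟨_, a, rfl⟩ := p; exact hT01 _ (hgenT a)
    | mul x y hx hy => simpa using hTmul 0 0 x hx y hy
    | add x y hx hy => exact Submodule.add_mem _ hx hy
  have hTzero : ∀ k m, ¬(m ∈ N ∧ k ≤ φ m) → ∀ x ∈ T k, x ∈ 𝒮 m → x = 0 := by
    intro k m hm x hx hxm
    rw [← projL_of_mem 𝒮 hxm]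
    refine Submodule.iSup_induction (motive := fun z => projL 𝒮 m z = 0) _ hx (fun i z hz => ?_)
      (map_zero _) fun z w hz hw => by rw [map_add, hz, hw, add_zero]
    by_cases hi : i ∈ N ∧ k ≤ φ i
    · rw [iSup_pos hi] at hz
      exact projL_of_mem_ne 𝒮 hz fun e => hm (e ▸ hi)
    · rw [iSup_neg hi] at hz
      rw [(Submodule.mem_bot B).mp hz, map_zero]
  let I : Ideal Sy := Ideal.span {x | ∃ m a, a ∈ 𝒜 m ∧ x = posGen 𝒜 ε N a}
  have hI : I.IsHomogeneous 𝒮 := Ideal.homogeneous_span 𝒮 _ fun x ⟨m, a, ha, hx⟩ => ⟨m, hx ▸ hgen m a ha⟩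
  have hgenI : ∀ a, posGen 𝒜 ε N a ∈ I := by
    intro a
    induction a using Decomposition.inductionOn 𝒜 with
    | zero => simp
    | add x y hx hy => rw [map_add]; exact I.add_mem hx hy
    | homogeneous x => exact Ideal.subset_span ⟨_, x.1, x.2, rfl⟩
  have hIT : ∀ k : ℕ, ∀ x ∈ I ^ k, x ∈ T k := by
    intro k
    induction k with
    | zero => exact fun x _ => hTall x
    | succ k ih =>
      intro x hx
      rw [pow_succ] at hx
      refine Submodule.mul_induction_on hx (fun y hy z hz => ?_) fun y z hy hz => Submodule.add_mem _ hy hz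
      rw [show ((k + 1 : ℕ) : ℤ) = (k : ℤ) + 1 by push_cast; rfl]
      refine hTmul _ _ _ (ih y hy) _ ?_
      induction hz using Submodule.span_induction with
      | mem w hw =>
        obtain ⟨m, a, -, rfl⟩ := hw
        exact hgenT a
      | zero => exact Submodule.zero_mem _
      | add v w _ _ hv hw => exact Submodule.add_mem _ hv hw
      | smul c w _ hw =>
        rw [smul_eq_mul]
        simpa using hTmul 0 1 c (hTall c) w hw
  have hsep : ∀ m, ∃ K : ℕ, ∀ x ∈ 𝒮 m, x ∈ I ^ K → x = 0 := fun m =>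
    ⟨(φ m + 1).toNat, fun x hx hxI => hTzero _ m (fun h => by
      have h2 := h.2
      have := hT0 m h.1
      omega) x (hIT _ x hxI) hx⟩
  have hgen2 : ∀ a b, posGen 𝒜 ε N a * posGen 𝒜 ε N b ∈ I ^ 2 := fun a b => by
    rw [pow_two]
    exact Ideal.mul_mem_mul (hgenI a) (hgenI b)
  -- the seed
  let g₀ : A →ₗ[B] Sy := (Algebra.linearMap B Sy).comp ε.toLinearMap + posGen 𝒜 ε N
  have hg₀ : ∀ a, g₀ a = algebraMap B Sy (ε a) + posGen 𝒜 ε N a := fun a => rfl
  let g₂ : A →ₐ[B] Sy ⧸ I ^ 2 := AlgHom.ofLinearMap ((Ideal.Quotient.mkₐ B (I ^ 2)).toLinearMap.comp g₀)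
    (by
      change Ideal.Quotient.mk _ (g₀ 1) = 1
      rw [hg₀, map_one, map_one, posGen_eq_zero 𝒜 ε N SetLike.GradedOne.one_mem fun h => h.2 rfl, add_zero,
        map_one])
    (fun a b => by
      change Ideal.Quotient.mk _ (g₀ (a * b)) = Ideal.Quotient.mk _ (g₀ a) * Ideal.Quotient.mk _ (g₀ b)
      rw [← map_mul, Ideal.Quotient.eq, hg₀, hg₀, hg₀, posGen_mul 𝒜 ε N hε, map_mul, map_mul,
        Algebra.smul_def, Algebra.smul_def]
      have := (I ^ 2).neg_mem (hgen2 a b)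
      convert this using 1
      ring)
  have hg₂ : IsGradedHom 𝒜 𝒮 g₂ := by
    intro m a ha
    refine ⟨g₀ a, ?_, rfl⟩
    rw [hg₀]
    refine (𝒮 m).add_mem ?_ (hgen m a ha)
    by_cases hm : m = 0
    · rw [hm]; exact hone _
    · rw [hε m hm a ha, map_zero]; exact (𝒮 m).zero_mem
  obtain ⟨F, hFdeg, hF2⟩ := exists_graded_hom 𝒜 𝒮 hI hsep g₂ hg₂
  have hFI : ∀ a, F a - g₀ a ∈ I ^ 2 := fun a => Ideal.Quotient.eq.mp (hF2 a)
  have hFJ : ∀ x ∈ posIdeal 𝒜 ε N, F x = 0 := by
    intro x hx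
    refine (Ideal.span_le.mpr ?_ : posIdeal 𝒜 ε N ≤ RingHom.ker F) hx
    rintro y (⟨m, hm, hy⟩ | ⟨hy, hy0⟩)
    · exact hTzero 0 m (fun h => hm h.1) _ (hTall _) (hFdeg m y hy)
    · refine hTzero (2 : ℕ) 0 (fun h => ?_) _ (hIT 2 _ ?_) (hFdeg 0 y hy)
      · have := h.2; rw [map_zero] at this; omega
      · have h := hFI y
        rwa [hg₀, hy0, map_zero, zero_add, posGen_eq_zero 𝒜 ε N hy (fun h => h.2 rfl), sub_zero] at h
  let C := A ⧸ posIdeal 𝒜 ε N
  let q := Ideal.Quotient.mkₐ B (posIdeal 𝒜 ε N)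
  let F' : C →ₐ[B] Sy := Ideal.Quotient.liftₐ _ F hFJ
  -- the graded section
  obtain ⟨s₀, hs₀⟩ := Module.projective_lifting_property (posD 𝒜 ε N).rangeRestrict LinearMap.id
    (posD 𝒜 ε N).surjective_rangeRestrict
  obtain ⟨s, hs⟩ := exists_ediff_lift ε
    (sumHom 𝒜 fun m => (projL 𝒜 m).comp ((posPart 𝒜 N).comp (s₀.comp (posD 𝒜 ε N).rangeRestrict)))
    (leibniz_of_pieces 𝒜 ε _ fun i j a ha b hb => by
      rw [sumHom_of_mem 𝒜 _ (SetLike.GradedMul.mul_mem ha hb), sumHom_of_mem 𝒜 _ ha, sumHom_of_mem 𝒜 _ hb]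
      simp only [LinearMap.comp_apply]
      have hD : (posD 𝒜 ε N).rangeRestrict (a * b) =
          ε a • (posD 𝒜 ε N).rangeRestrict b + ε b • (posD 𝒜 ε N).rangeRestrict a :=
        Subtype.ext (posD_mul 𝒜 ε N hε a b)
      rw [hD, map_add, map_smul, map_smul, map_add, map_smul, map_smul, map_add, map_smul, map_smul]
      exact congrArg₂ (· + ·) (eps_smul_congr 𝒜 ε hε ha fun hi => by rw [hi, zero_add])
        (eps_smul_congr 𝒜 ε hε hb fun hj => by rw [hj, add_zero]))
  let sg : PosDiff 𝒜 ε N →ₗ[B] A := (posPart 𝒜 N).comp (s.comp (PosDiff 𝒜 ε N).subtype)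
  have hcomm : ∀ m (x : A), posPart 𝒜 N (projL 𝒜 m x) = projL 𝒜 m (posPart 𝒜 N x) := by
    intro m x
    refine DFunLike.congr_fun (hom_ext_pieces 𝒜 (f := (posPart 𝒜 N).comp (projL 𝒜 m))
      (g := (projL 𝒜 m).comp (posPart 𝒜 N)) fun i b hb => ?_) x
    rw [LinearMap.comp_apply, LinearMap.comp_apply, posPart_of_mem 𝒜 N hb]
    by_cases hi : i = m
    · subst hi
      rw [projL_of_mem 𝒜 hb, posPart_of_mem 𝒜 N hb]
      split_ifs <;> simp [projL_of_mem 𝒜 hb]
    · rw [projL_of_mem_ne 𝒜 hb hi, map_zero]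
      split_ifs <;> simp [projL_of_mem_ne 𝒜 hb hi]
  have hsg_deg : ∀ m, ∀ a ∈ 𝒜 m, sg ⟨posD 𝒜 ε N a, a, rfl⟩ ∈ 𝒜 m := by
    intro m a ha
    change posPart 𝒜 N (s (ed ε (posPart 𝒜 N a))) ∈ _
    rw [hs, posPart_of_mem 𝒜 N ha]
    split_ifs with h
    · rw [sumHom_of_mem 𝒜 _ ha, LinearMap.comp_apply, hcomm]
      exact projL_mem 𝒜 _ _
    · rw [map_zero, map_zero]; exact (𝒜 m).zero_mem
  have hsg_D : ∀ p, posD 𝒜 ε N (sg p) = p.1 := by
    rintro ⟨_, a, rfl⟩
    change posD 𝒜 ε N (posPart 𝒜 N (s (ed ε (posPart 𝒜 N a)))) = posD 𝒜 ε N a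
    rw [posD_posPart, hs]
    conv_rhs => rw [← posD_posPart]
    generalize posPart 𝒜 N a = b
    refine DFunLike.congr_fun (hom_ext_pieces 𝒜 (f := (posD 𝒜 ε N).comp (sumHom 𝒜 fun m =>
      (projL 𝒜 m).comp ((posPart 𝒜 N).comp (s₀.comp (posD 𝒜 ε N).rangeRestrict)))) (g := posD 𝒜 ε N)
      fun i c hc => ?_) b
    rw [LinearMap.comp_apply, sumHom_of_mem 𝒜 _ hc]
    simp only [LinearMap.comp_apply]
    rw [← hcomm, posD_posPart]
    -- projecting to a component commutes with the differential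
    obtain ⟨π, hπ⟩ := exists_ediff_lift ε ((posD 𝒜 ε N).comp (projL 𝒜 i)) (leibniz_of_pieces 𝒜 ε _
      fun k l x hx y hy => by
        simp only [LinearMap.comp_apply]
        have e1 : ε x • posD 𝒜 ε N (projL 𝒜 i y) = ε x • (if k + l = i then posD 𝒜 ε N y else 0) :=
          eps_smul_congr 𝒜 ε hε hx fun hk => by
            rw [hk, zero_add]
            split_ifs with hl
            · rw [projL_of_mem 𝒜 (hl ▸ hy)]
            · rw [projL_of_mem_ne 𝒜 hy hl, map_zero]
        have e2 : ε y • posD 𝒜 ε N (projL 𝒜 i x) = ε y • (if k + l = i then posD 𝒜 ε N x else 0) :=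
          eps_smul_congr 𝒜 ε hε hy fun hl => by
            rw [hl, add_zero]
            split_ifs with hk
            · rw [projL_of_mem 𝒜 (hk ▸ hx)]
            · rw [projL_of_mem_ne 𝒜 hx hk, map_zero]
        rw [e1, e2]
        by_cases hkl : k + l = i
        · rw [if_pos hkl, if_pos hkl, projL_of_mem 𝒜 (hkl ▸ SetLike.GradedMul.mul_mem hx hy),
            posD_mul 𝒜 ε N hε]
        · rw [if_neg hkl, if_neg hkl, projL_of_mem_ne 𝒜 (SetLike.GradedMul.mul_mem hx hy) hkl, map_zero,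
            smul_zero, smul_zero, add_zero])
    have hπD : ∀ x, posD 𝒜 ε N (projL 𝒜 i x) = π (posD 𝒜 ε N x) := fun x => by
      change _ = π (ed ε (posPart 𝒜 N x))
      rw [hπ, LinearMap.comp_apply, ← hcomm, posD_posPart]
    rw [hπD, congrArg Subtype.val (LinearMap.congr_fun hs₀ ((posD 𝒜 ε N).rangeRestrict c)) |> (fun h =>
        (h : posD 𝒜 ε N (s₀ ((posD 𝒜 ε N).rangeRestrict c)) = posD 𝒜 ε N c)), ← hπD, projL_of_mem 𝒜 hc]
  let Φ : Sy →ₐ[B] C := SymmetricAlgebra.lift (q.toLinearMap.comp sg)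
  have hΦ : ∀ p, Φ (SymmetricAlgebra.ι B _ p) = q (sg p) := fun p => SymmetricAlgebra.lift_ι_apply _ p
  let θ : Sy →ₐ[B] Sy := F'.comp Φ
  have hθι : ∀ p, θ (SymmetricAlgebra.ι B _ p) - SymmetricAlgebra.ι B _ p ∈ I ^ 2 := by
    intro p
    have h1 : θ (SymmetricAlgebra.ι B _ p) = F (sg p) := by
      change F' (Φ _) = _
      rw [hΦ]
      rfl
    have h2 : g₀ (sg p) = SymmetricAlgebra.ι B _ p := by
      have h0 : ε (sg p) = 0 := eps_posPart 𝒜 ε N hε _
      rw [hg₀, h0, map_zero, zero_add, posGen_eq]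
      exact congrArg _ (Subtype.ext (hsg_D p))
    rw [h1, ← h2]
    exact hFI _
  have hθ0 : ∀ x, θ x - x ∈ I := by
    intro x
    induction x using SymmetricAlgebra.induction with
    | algebraMap r => rw [AlgHom.commutes, sub_self]; exact I.zero_mem
    | ι p => exact Ideal.pow_le_self two_ne_zero (hθι p)
    | mul a b ha hb =>
      rw [map_mul, show θ a * θ b - a * b = (θ a - a) * θ b + a * (θ b - b) by ring]
      exact I.add_mem (I.mul_mem_right _ ha) (I.mul_mem_left _ hb)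
    | add a b ha hb =>
      rw [map_add, add_sub_add_comm]
      exact I.add_mem ha hb
  have hθk : ∀ k, ∀ x ∈ I ^ k, θ x - x ∈ I ^ (k + 1) := by
    intro k
    induction k with
    | zero => intro x _; simpa using hθ0 x
    | succ k ih =>
      intro x hx
      rw [pow_succ] at hx
      refine Submodule.mul_induction_on hx (fun y hy z hz => ?_) fun y z hy hz => by
        rw [map_add, add_sub_add_comm]; exact Ideal.add_mem _ hy hz
      have hz' : θ z - z ∈ I ^ 2 := by
        induction hz using Submodule.span_induction with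
        | mem w hw =>
          obtain ⟨m, a, -, rfl⟩ := hw
          exact hθι _
        | zero => simp
        | add v w _ _ hv hw => rw [map_add, add_sub_add_comm]; exact Ideal.add_mem _ hv hw
        | smul c w hwI hw =>
          rw [smul_eq_mul, map_mul, show θ c * θ w - c * w = (θ c - c) * w + θ c * (θ w - w) by ring]
          refine Ideal.add_mem _ ?_ (Ideal.mul_mem_left _ _ hw)
          rw [pow_two]
          exact Ideal.mul_mem_mul (hθ0 c) hwI
      have hθy : θ y ∈ I ^ k := by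
        have := Ideal.add_mem _ (Ideal.pow_le_pow_right (Nat.le_succ k) (ih y hy)) hy
        rwa [sub_add_cancel] at this
      rw [map_mul, show θ y * θ z - y * z = (θ y - y) * z + θ y * (θ z - z) by ring]
      refine Ideal.add_mem _ ?_ ?_
      · rw [pow_succ]
        exact Ideal.mul_mem_mul (ih y hy) hz
      · rw [show k + 1 + 1 = k + 2 by omega, pow_add]
        exact Ideal.mul_mem_mul hθy hz'
  have hinj : Function.Injective Φ := by
    rw [injective_iff_map_eq_zero]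
    intro x hx
    have hθx : θ x = 0 := by
      change F' (Φ x) = 0
      rw [hx, map_zero]
    have hall : ∀ k, x ∈ I ^ k := by
      intro k
      induction k with
      | zero => simp
      | succ k ih =>
        have := hθk k x ih
        rwa [hθx, zero_sub, neg_mem_iff] at this
    refine eq_zero_of_projL 𝒮 fun m => ?_
    obtain ⟨K, hK⟩ := hsep m
    exact hK _ (projL_mem 𝒮 m x) (isHomogeneous_pow 𝒮 hI K m (hall K))
  -- surjectivity
  let R := Φ.range
  let J := posIdeal 𝒜 ε N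
  have hJR : ∀ m, m ∉ N → ∀ a ∈ 𝒜 m, q a = 0 := fun m hm a ha =>
    Ideal.Quotient.eq_zero_iff_mem.mpr (Ideal.subset_span (Or.inl ⟨m, hm, ha⟩))
  have hJ0 : ∀ a ∈ 𝒜 0, q a = algebraMap B C (ε a) := fun a ha => by
    rw [← sub_eq_zero, ← q.commutes (ε a), ← map_sub]
    exact Ideal.Quotient.eq_zero_iff_mem.mpr (Ideal.subset_span (Or.inr
      ⟨(𝒜 0).sub_mem ha (SetLike.algebraMap_mem_graded 𝒜 (ε a)), by simp⟩))
  -- first order
  have hsurj₁ : ∀ a, q a - algebraMap B C (ε a) - Φ (posGen 𝒜 ε N a) ∈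
      ((RingHom.ker ε) ^ 2).map (q : A →+* C) := by
    let K := ((RingHom.ker ε) ^ 2).map (q : A →+* C)
    letI : Module B (C ⧸ K) := inferInstance
    let L : A →ₗ[B] C ⧸ K := (Ideal.Quotient.mkₐ B K).toLinearMap.comp
      (q.toLinearMap - (Algebra.linearMap B C).comp ε.toLinearMap)
    obtain ⟨r, hr⟩ := exists_ediff_lift ε L fun a b => by
      change Ideal.Quotient.mk K (q (a * b) - algebraMap B C (ε (a * b))) =
        ε a • Ideal.Quotient.mk K (q b - algebraMap B C (ε b)) +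
          ε b • Ideal.Quotient.mk K (q a - algebraMap B C (ε a))
      have hs : ∀ (c : B) (z : C), c • Ideal.Quotient.mk K z = Ideal.Quotient.mk K (algebraMap B C c * z) :=
        fun c z => by rw [← Algebra.smul_def]; exact (map_smul (Ideal.Quotient.mkₐ B K) c z).symm
      rw [hs, hs, ← map_add, Ideal.Quotient.eq]
      have h : q ((a - algebraMap B A (ε a)) * (b - algebraMap B A (ε b))) ∈ K :=
        Ideal.mem_map_of_mem _ (by
          rw [pow_two]
          exact Ideal.mul_mem_mul (by simp [RingHom.mem_ker]) (by simp [RingHom.mem_ker]))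
      convert h using 1
      simp only [map_mul, map_sub, q.commutes, AlgHom.commutes, Algebra.algebraMap_self, RingHom.id_apply]
      ring
    intro a
    have h0 : ∀ m, ∀ b ∈ 𝒜 m, L b = L (posPart 𝒜 N b) := by
      intro m b hb
      rw [posPart_of_mem 𝒜 N hb]
      split_ifs with h
      · rfl
      · rw [map_zero]
        change Ideal.Quotient.mk K (q b - algebraMap B C (ε b)) = 0
        by_cases hm : m = 0
        · rw [hJ0 b (hm ▸ hb), sub_self, map_zero]
        · rw [hJR m (fun hmN => h ⟨hmN, hm⟩) b hb, hε m hm b hb, map_zero, sub_zero, map_zero]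
    have h1 : L a = L (sg ⟨posD 𝒜 ε N a, a, rfl⟩) := by
      rw [DFunLike.congr_fun (hom_ext_pieces 𝒜 (f := L) (g := L.comp (posPart 𝒜 N)) h0) a, LinearMap.comp_apply,
        ← hr, show sg ⟨posD 𝒜 ε N a, a, rfl⟩ = posPart 𝒜 N (s (posD 𝒜 ε N a)) from rfl,
        show L (posPart 𝒜 N (s (posD 𝒜 ε N a))) = r (posD 𝒜 ε N (sg ⟨posD 𝒜 ε N a, a, rfl⟩)) by
          rw [show posD 𝒜 ε N (sg ⟨posD 𝒜 ε N a, a, rfl⟩) =
              ed ε (posPart 𝒜 N (posPart 𝒜 N (s (posD 𝒜 ε N a)))) from rfl, hr, posPart_idem],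
        hsg_D]
      rfl
    rw [← Ideal.Quotient.eq_zero_iff_mem]
    have h2 : Φ (posGen 𝒜 ε N a) = q (sg ⟨posD 𝒜 ε N a, a, rfl⟩) := hΦ _
    rw [h2, show q a - algebraMap B C (ε a) - q (sg ⟨posD 𝒜 ε N a, a, rfl⟩) =
      (q a - algebraMap B C (ε a)) -
        (q (sg ⟨posD 𝒜 ε N a, a, rfl⟩) - algebraMap B C (ε (sg ⟨posD 𝒜 ε N a, a, rfl⟩))) by
        rw [show ε (sg ⟨posD 𝒜 ε N a, a, rfl⟩) = 0 from eps_posPart 𝒜 ε N hε _, map_zero, sub_zero], map_sub]
    exact sub_eq_zero.mpr h1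
  have hmem : ∀ (k : ℕ) m, φ m ≤ k → ∀ a ∈ 𝒜 m, q a ∈ R := by
    intro k
    induction k using Nat.strong_induction_on with
    | _ k ih =>
      intro m hmk a ha
      by_cases hm : m ∈ N
      swap
      · rw [hJR m hm a ha]; exact zero_mem R
      by_cases hm0 : m = 0
      · rw [hJ0 a (hm0 ▸ ha)]; exact R.algebraMap_mem _
      have hpos := hφ m hm hm0
      obtain ⟨y, hy, hye⟩ := (Ideal.mem_map_iff_of_surjective (q : A →+* C) Ideal.Quotient.mk_surjective).mp
        (hsurj₁ a)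
      rw [hε m hm0 a ha, map_zero, sub_zero, posGen_eq, hΦ] at hye
      have hd : a - sg ⟨posD 𝒜 ε N a, a, rfl⟩ - y ∈ J := by
        refine Ideal.Quotient.eq_zero_iff_mem.mp ?_
        change q _ = 0
        rw [map_sub, map_sub, ← hye]
        exact sub_self _
      have hd' : q (projL 𝒜 m (a - sg ⟨posD 𝒜 ε N a, a, rfl⟩ - y)) = 0 := by
        refine Ideal.Quotient.eq_zero_iff_mem.mpr ?_
        refine Ideal.homogeneous_span 𝒜 _ (fun x hx => ?_) m hd
        rcases hx with ⟨i, -, hi⟩ | ⟨hi, -⟩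
        · exact ⟨i, hi⟩
        · exact ⟨0, hi⟩
      rw [map_sub, map_sub, map_sub, projL_of_mem 𝒜 ha, projL_of_mem 𝒜 (hsg_deg m a ha), map_sub, sub_eq_zero,
        sub_eq_iff_eq_add] at hd'
      rw [hd']
      refine R.add_mem ?_ ⟨_, hΦ ⟨posD 𝒜 ε N a, a, rfl⟩⟩
      rw [pow_two] at hy
      refine Submodule.mul_induction_on hy (fun c hc d hd => ?_) fun c d hc hd => by
        rw [map_add, map_add]; exact R.add_mem hc hd
      have hεproj : ∀ i (x : A), ε x = 0 → ε (projL 𝒜 i x) = 0 := fun i x hx => by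
        by_cases hi : i = 0
        · subst hi
          refine Eq.trans ?_ hx
          exact DFunLike.congr_fun (hom_ext_pieces 𝒜 (f := ε.toLinearMap.comp (projL 𝒜 0)) (g := ε.toLinearMap)
            fun j b hb => by
              by_cases hj : j = 0
              · rw [LinearMap.comp_apply, projL_of_mem 𝒜 (hj ▸ hb)]
              · rw [LinearMap.comp_apply, projL_of_mem_ne 𝒜 hb hj, map_zero]
                exact (hε j hj b hb).symm) x
        · exact hε i hi _ (projL_mem 𝒜 i x)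
      rw [show c * d = (∑ i ∈ (decompose 𝒜 c).support, projL 𝒜 i c) * d by
        rw [show (∑ i ∈ (decompose 𝒜 c).support, projL 𝒜 i c) = c from sum_support_decompose 𝒜 c],
        Finset.sum_mul, map_sum, map_sum]
      refine R.sum_mem fun i _ => ?_
      rw [show m = i + (m - i) by abel, projL_mul_left 𝒜 (projL_mem 𝒜 i c), map_mul]
      by_cases hi : i ∈ N ∧ i ≠ 0
      · by_cases hj : m - i ∈ N ∧ m - i ≠ 0
        · have h1 := hφ i hi.1 hi.2
          have h2 := hφ _ hj.1 hj.2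
          rw [map_sub] at h2
          refine R.mul_mem (ih (k - 1) (by omega) i (by omega) _ (projL_mem 𝒜 i c))
            (ih (k - 1) (by omega) (m - i) (by rw [map_sub]; omega) _ (projL_mem 𝒜 _ d))
        · have : q (projL 𝒜 (m - i) d) = 0 := by
            by_cases hj' : m - i = 0
            · rw [hJ0 _ (hj' ▸ projL_mem 𝒜 (m - i) d), hεproj _ d (RingHom.mem_ker.mp hd), map_zero]
            · exact hJR _ (fun h => hj ⟨h, hj'⟩) _ (projL_mem 𝒜 _ d)
          rw [this, mul_zero]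
          exact zero_mem R
      · have : q (projL 𝒜 i c) = 0 := by
          by_cases hi' : i = 0
          · rw [hJ0 _ (hi' ▸ projL_mem 𝒜 i c), hεproj _ c (RingHom.mem_ker.mp hc), map_zero]
          · exact hJR _ (fun h => hi ⟨h, hi'⟩) _ (projL_mem 𝒜 _ c)
        rw [this, zero_mul]
        exact zero_mem R
  have hsurj : Function.Surjective Φ := by
    intro x
    obtain ⟨a, rfl⟩ := Ideal.Quotient.mkₐ_surjective B J x
    change q a ∈ R
    induction a using Decomposition.inductionOn 𝒜 with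
    | zero => rw [map_zero]; exact zero_mem R
    | add y z hy hz => rw [map_add]; exact R.add_mem hy hz
    | homogeneous y =>
      rename_i m
      exact hmem (φ m).toNat m (Int.self_le_toNat _) y.1 y.2
  exact ⟨(AlgEquiv.ofBijective Φ ⟨hinj, hsurj⟩).symm⟩

end MagnetSymLib
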